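import Cfsg.Agent.H716.Rg.ExcIn
import Cfsg.Agent.H219.Rg.OrdLe
import Cfsg.Agent.H274.Rg.LrgChev

/-!
# S5714 (TEAM RG, helper716): `FamP` for the exceptional groups
-/

set_option autoImplicit false

namespace Cfsg.Agent.H716.Rg

open Cfsg Cfsg.Agent.OrdDiv Cfsg.Agent.H436 Cfsg.Agent.H141.Rg

/-- **`FamP` for the exceptional groups of Lie type.** -/
theorem famP_exc : FamP (fun g => H268.Seven.IsExc g) :=
  famP_exc_of' H274.Rg.lrg_chev fun hρ _ _ _ x hx _ hc S hS _ _ hk hD => H219.Rg.ordLe_of_rat hρ x hx hc S hS hk hD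

end Cfsg.Agent.H716.Rg
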