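import Cfsg.Agent.H141.Rg.Defs
import Cfsg.Agent.H716.Dg.Rows
import Cfsg.Agent.H321.PSLThree
import Cfsg.Agent.S0279

/-!
# S5714 (TEAM RG, helper716): normal sets for `PSL₃(q)` and `PSU₃(q)`

* `nf_outA` : the normal sets (elements of order divisible by `u`, `u` a primitive prime divisor for `q ^ 3 - 1`, and the
  regular split elements);
* `nf_psl3`, `nf_psu3`.
-/

set_option autoImplicit false

namespace Cfsg.Agent.H716.Rg

open Matrix Cfsg Cfsg.Agent.OrdDiv Cfsg.Agent.H436 Cfsg.Agent.H141.Rg Cfsg.Agent.H716.Dg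
open Cfsg.Agent.H851.Dg Cfsg.Agent.H728.DghpNum Cfsg.Agent.H304.Ppd Cfsg.Agent.H304.PslT Cfsg.Agent.H251.GeoCard
open Cfsg.Geo Cfsg.Agent.H918 Cfsg.Agent.H947.El Cfsg.Agent.H907.Mx

/-! ### general lemmas -/

theorem nf_of_finite {T : Type*} [Group T] {ι : Type*} [Finite ι] (E : ι → Set T) {w : ℝ} (h1 : ∀ i, CInv (E i))
    (h2 : ∀ i, (Nat.card T : ℝ) ≤ w * Nat.card (E i))
    (h3 : ∀ R : Subgroup T, R ≠ ⊤ → ∃ i, ∀ x ∈ R, x ∉ E i) : NF (Nat.card ι) w T := by
  refine ⟨fun i => E ((Finite.equivFin ι).symm i), fun i => h1 _, fun i => h2 _, fun R hR => ?_⟩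
  obtain ⟨i, hi⟩ := h3 R hR
  refine ⟨Finite.equivFin ι i, fun x hx => ?_⟩
  show x ∉ E ((Finite.equivFin ι).symm (Finite.equivFin ι i))
  rw [Equiv.symm_apply_apply]
  exact hi x hx

theorem NF_mono {T : Type*} [Group T] {n : ℕ} {w w' : ℝ} (hw : w ≤ w') (h : NF n w T) : NF n w' T := by
  obtain ⟨E, h1, h2, h3⟩ := h
  exact ⟨E, h1, fun i => (h2 i).trans (mul_le_mul_of_nonneg_right hw (Nat.cast_nonneg _)), h3⟩

theorem NF_congr {T T' : Type*} [Group T] [Group T'] (e : T ≃* T') {n : ℕ} {w : ℝ} (h : NF n w T) : NF n w T' := by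
  obtain ⟨E, h1, h2, h3⟩ := h
  refine ⟨fun i => e.symm ⁻¹' E i, fun i x hx g => ?_, fun i => ?_, fun R hR => ?_⟩
  · show e.symm (g * x * g⁻¹) ∈ E i
    rw [map_mul, map_mul, map_inv]
    exact h1 i _ hx _
  · have h4 : Nat.card (e.symm ⁻¹' E i) = Nat.card (E i) := by
      refine Nat.card_congr ⟨fun x => ⟨e.symm x.1, x.2⟩, fun x => ⟨e x.1, ?_⟩, fun x => ?_, fun x => ?_⟩
      · show e.symm (e x.1) ∈ E i
        rw [MulEquiv.symm_apply_apply]
        exact x.2
      · exact Subtype.ext (e.apply_symm_apply _)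
      · exact Subtype.ext (e.symm_apply_apply _)
    rw [h4, ← Nat.card_congr e.toEquiv]
    exact h2 i
  · obtain ⟨i, hi⟩ := h3 (R.comap (e : T →* T')) (by
      intro h
      apply hR
      rw [eq_top_iff]
      intro x _
      have h4 : e.symm x ∈ R.comap (e : T →* T') := by rw [h]; trivial
      have h5 : e (e.symm x) ∈ R := h4
      rwa [MulEquiv.apply_symm_apply] at h5)
    refine ⟨i, fun x hx hxE => hi (e.symm x) ?_ hxE⟩
    show e (e.symm x) ∈ R
    rwa [MulEquiv.apply_symm_apply]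

theorem card_le_image {G T : Type*} [Group G] [Group T] [Finite G] (π : G →* T) (S : Set G) :
    Nat.card S ≤ Nat.card π.ker * Nat.card (π '' S) := by
  classical
  rw [mul_comm, ← Nat.card_prod]
  let h : (π '' S) → G := fun t => t.2.choose
  have hh : ∀ t, π (h t) = t.1 := fun t => t.2.choose_spec.2
  have : Finite (π '' S) := Set.Finite.to_subtype (Set.toFinite _)
  refine Nat.card_le_card_of_injective (fun s : S => ((⟨π s, s, s.2, rfl⟩ : π '' S),
    (⟨(h ⟨π s, s, s.2, rfl⟩)⁻¹ * s, ?_⟩ : π.ker))) ?_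
  · rw [MonoidHom.mem_ker, map_mul, map_inv, hh, inv_mul_cancel]
  · rintro ⟨s, hs⟩ ⟨s', hs'⟩ heq
    have e1 : (⟨π s, s, hs, rfl⟩ : π '' S) = ⟨π s', s', hs', rfl⟩ := congrArg Prod.fst heq
    have e2 : (h ⟨π s, s, hs, rfl⟩)⁻¹ * s = (h ⟨π s', s', hs', rfl⟩)⁻¹ * s' :=
      congrArg (fun p : (π '' S) × π.ker => (p.2 : G)) heq
    rw [e1] at e2
    exact Subtype.ext (mul_left_cancel e2)

theorem card_eq_ker {G T : Type*} [Group G] [Group T] [Finite G] (π : G →* T) (hπ : Function.Surjective π) :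
    Nat.card G = Nat.card π.ker * Nat.card T := by
  rw [Subgroup.card_eq_card_quotient_mul_card_subgroup π.ker, mul_comm]
  congr 1
  exact Nat.card_congr (QuotientGroup.quotientKerEquivOfSurjective π hπ).toEquiv

theorem card_le_of_image {G T : Type*} [Group G] [Group T] [Finite G] (π : G →* T) (hπ : Function.Surjective π)
    {S : Set G} {c : ℕ} (h : Nat.card G ≤ c * Nat.card S) : Nat.card T ≤ c * Nat.card (π '' S) := by
  have h1 := card_eq_ker π hπ
  have h2 := card_le_image π S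
  have h3 : 0 < Nat.card π.ker := Nat.card_pos
  have h4 : Nat.card π.ker * Nat.card T ≤ Nat.card π.ker * (c * Nat.card (π '' S)) := by
    rw [← h1]
    calc Nat.card G ≤ c * Nat.card S := h
      _ ≤ c * (Nat.card π.ker * Nat.card (π '' S)) := Nat.mul_le_mul_left _ h2
      _ = Nat.card π.ker * (c * Nat.card (π '' S)) := by ring
  exact Nat.le_of_mul_le_mul_left h4 h3

theorem cinv_image {G T : Type*} [Group G] [Group T] (π : G →* T) (hπ : Function.Surjective π) {S : Set G}
    (h : CInv S) : CInv (π '' S) := by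
  rintro _ ⟨x, hx, rfl⟩ g
  obtain ⟨y, rfl⟩ := hπ g
  exact ⟨y * x * y⁻¹, h x hx y, by rw [map_mul, map_mul, map_inv]⟩

/-! ### the normal sets -/

open Classical in
/-- **The normal sets.** -/
theorem nf_outA {F : Type*} [Field F] [Fintype F] {G T : Type*} [Group G] [Finite G] [Group T] (φ : G →* GL (Fin 3) F)
    (hφ : Function.Injective φ) (π : G →* T) (hπ : Function.Surjective π) (A : Subgroup Fˣ) (hA : 6 * NN ≤ Nat.card A)
    (h1 : ∀ a ∈ A, ∀ b ∈ A, ∃ g : G, ((φ g : GL (Fin 3) F) : Matrix (Fin 3) (Fin 3) F) =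
      diagonal ![(a : F), (b : F), (((a * b)⁻¹ : Fˣ) : F)])
    (h2 : ∀ g : G, ∀ d : Fin 3 → F, ((φ g : GL (Fin 3) F) : Matrix (Fin 3) (Fin 3) F) = diagonal d →
      ∃ a ∈ A, ∃ b ∈ A, d = ![(a : F), (b : F), (((a * b)⁻¹ : Fˣ) : F)])
    (hM : ∀ M : Subgroup T, IsCoatom M → OutA (Nat.card G) ((M.comap π).map φ)) :
    NF ((Nat.card G).primeFactors.card + 1) 54 T := by
  have hfT : Finite T := Finite.of_surjective π hπ
  let E : Option {u // u ∈ (Nat.card G).primeFactors} → Set T := fun o => match o with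
    | none => π '' {x : G | ∃ a, Reg NN (φ a) ∧ IsConj a x}
    | some u => if Ppd (Fintype.card F) 3 u.1 then π '' {x : G | u.1 ∣ orderOf x} else Set.univ
  have hcard : Nat.card (Option {u // u ∈ (Nat.card G).primeFactors}) = (Nat.card G).primeFactors.card + 1 := by
    rw [Finite.card_option, Nat.card_eq_fintype_card, Fintype.card_coe]
  rw [← hcard]
  refine nf_of_finite E ?_ ?_ ?_
  · rintro (_ | u)
    · refine cinv_image π hπ ?_
      rintro x ⟨a, ha, hax⟩ g
      exact ⟨a, ha, hax.trans (isConj_iff.2 ⟨g, rfl⟩)⟩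
    · show CInv (if Ppd (Fintype.card F) 3 u.1 then π '' {x : G | u.1 ∣ orderOf x} else Set.univ)
      split_ifs with h
      · refine cinv_image π hπ ?_
        intro x hx g
        show u.1 ∣ orderOf (g * x * g⁻¹)
        have h5 : orderOf (g * x * g⁻¹) = orderOf x := by
          have := orderOf_injective (MulAut.conj g).toMonoidHom (MulAut.conj g).injective x
          simpa using this
        rw [h5]
        exact hx
      · intro x _ g
        trivial
  · rintro (_ | u)
    · have h3 := split3 φ hφ A (N := NN) (by unfold NN; norm_num) hA h1 h2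
      have h4 := card_le_of_image π hπ h3
      exact_mod_cast h4
    · show (Nat.card T : ℝ) ≤ 54 * Nat.card
        ↥(if Ppd (Fintype.card F) 3 u.1 then π '' {x : G | u.1 ∣ orderOf x} else Set.univ)
      split_ifs with h
      · have h3 := sing3 φ hφ h (Nat.dvd_of_mem_primeFactors u.2)
        have h4 : Nat.card T ≤ 6 * Nat.card (π '' {x : G | u.1 ∣ orderOf x}) := card_le_of_image π hπ h3
        have h5 : Nat.card T ≤ 54 * Nat.card (π '' {x : G | u.1 ∣ orderOf x}) := by omega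
        exact_mod_cast h5
      · rw [Nat.card_congr (Equiv.Set.univ T)]
        have : (0 : ℝ) ≤ Nat.card T := Nat.cast_nonneg _
        linarith
  · intro R hR
    obtain ⟨M, hMc, hRM⟩ := (eq_top_or_exists_le_coatom R).resolve_left hR
    rcases hM M hMc with ⟨u, hP, hu, h⟩ | h
    · refine ⟨some ⟨u, Nat.mem_primeFactors.2 ⟨hP.prime, hu, Nat.card_pos.ne'⟩⟩, fun x hx hxE => ?_⟩
      have hxE' : x ∈ (if Ppd (Fintype.card F) 3 u then π '' {x : G | u ∣ orderOf x} else Set.univ) := hxE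
      rw [if_pos hP] at hxE'
      obtain ⟨y, hy, rfl⟩ := hxE'
      have hyu : u ∣ orderOf y := hy
      have hyM0 : y ∈ M.comap π := hRM hx
      have hyM : y ^ (orderOf y / u) ∈ M.comap π := Subgroup.pow_mem _ hyM0 _
      refine h (φ (y ^ (orderOf y / u))) ⟨_, hyM, rfl⟩ ?_
      rw [orderOf_injective φ hφ]
      exact orderOf_pow_orderOf_div (orderOf_pos y).ne' hyu
    · refine ⟨none, fun x hx hxE => ?_⟩
      obtain ⟨y, ⟨a, ha, hay⟩, rfl⟩ := hxE
      obtain ⟨g, hg⟩ := isConj_iff.1 hay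
      refine h (φ y) ⟨y, hRM hx, rfl⟩ (φ g)⁻¹ ?_
      have h5 : (φ g)⁻¹ * φ y * ((φ g)⁻¹)⁻¹ = φ a := by
        rw [← map_inv, ← map_mul, ← map_inv, ← map_mul]
        congr 1
        rw [← hg]
        group
      rw [h5]
      exact ha

theorem two_pow_le {c : ℕ} (hc : c ≠ 0) : 2 ^ c.primeFactors.card ≤ c := by
  calc 2 ^ c.primeFactors.card ≤ ∏ p ∈ c.primeFactors, p :=
        Finset.pow_card_le_prod _ _ _ fun p hp => (Nat.prime_of_mem_primeFactors hp).two_le
    _ ≤ c := Nat.le_of_dvd (Nat.pos_of_ne_zero hc) (Nat.prod_primeFactors_dvd c)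

theorem one_le_lg {T : Type*} (h3 : 3 ≤ Nat.card T) : 1 ≤ lg T := by
  unfold lg
  have h : (3 : ℝ) ≤ Nat.card T := by exact_mod_cast h3
  rw [Real.le_log_iff_exp_le (by linarith)]
  have := Real.exp_one_lt_d9
  linarith

/-- the bounds in terms of `log |T|` -/
theorem exists_of_nf {T : Type*} [Group T] {c : ℕ} (hc0 : c ≠ 0) (hc : c ≤ 3 * Nat.card T) (h3 : 3 ≤ Nat.card T)
    (h : NF (c.primeFactors.card + 1) 54 T) : ∃ n : ℕ, (n : ℝ) ≤ 54 * lg T ∧ NF n (54 * lg T) T := by
  have h1 := one_le_lg h3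
  refine ⟨c.primeFactors.card + 1, ?_, NF_mono (by linarith) h⟩
  have h4 : (2 : ℝ) ^ c.primeFactors.card ≤ (Nat.card T : ℝ) ^ 2 := by
    have h5 : 2 ^ c.primeFactors.card ≤ Nat.card T ^ 2 := by
      refine (two_pow_le hc0).trans (hc.trans ?_)
      rw [pow_two]
      exact Nat.mul_le_mul_right _ h3
    exact_mod_cast h5
  have h5 : (c.primeFactors.card : ℝ) * Real.log 2 ≤ 2 * lg T := by
    have h6 := Real.log_le_log (by positivity) h4
    rw [Real.log_pow, Real.log_pow] at h6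
    exact_mod_cast h6
  have h6 : (0.6931471803 : ℝ) < Real.log 2 := Real.log_two_gt_d9
  have h7 : (0 : ℝ) ≤ c.primeFactors.card := Nat.cast_nonneg _
  push_cast
  nlinarith

theorem nf_psl3_aux {F : Type} [Field F] [Fintype F] (hbig : 6 * NN < Fintype.card F) :
    NF ((Nat.card (Matrix.SpecialLinearGroup (Fin 3) F)).primeFactors.card + 1) 54
      (Matrix.ProjectiveSpecialLinearGroup (Fin 3) F) := by
  have hNN : NN = 10080 := rfl
  refine nf_outA (Matrix.SpecialLinearGroup.toGL (n := Fin 3) (R := F)) toGL_injective (pr 3 F)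
    (QuotientGroup.mk'_surjective _) ⊤ ?_ ?_ ?_ fun M hM => outA_sl (by omega) hM
  · rw [Subgroup.card_top, Nat.card_units, Nat.card_eq_fintype_card]
    omega
  · intro a _ b _
    refine ⟨⟨diagonal ![(a : F), (b : F), (((a * b)⁻¹ : Fˣ) : F)], ?_⟩, rfl⟩
    rw [Matrix.det_diagonal, Fin.prod_univ_three]
    show (a : F) * b * (((a * b)⁻¹ : Fˣ) : F) = 1
    rw [← Units.val_mul, ← Units.val_mul, mul_inv_cancel, Units.val_one]
  · intro g d hd
    have hd' : (g : Matrix (Fin 3) (Fin 3) F) = diagonal d := hd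
    have h1 : d 0 * d 1 * d 2 = 1 := by
      have h2 := g.2
      rw [hd', Matrix.det_diagonal, Fin.prod_univ_three] at h2
      exact h2
    have h0 : d 0 ≠ 0 := by
      intro h
      rw [h] at h1
      simp at h1
    have h0' : d 1 ≠ 0 := by
      intro h
      rw [h] at h1
      simp at h1
    refine ⟨Units.mk0 _ h0, trivial, Units.mk0 _ h0', trivial, ?_⟩
    funext i
    fin_cases i
    · rfl
    · rfl
    · show d 2 = (((Units.mk0 _ h0 * Units.mk0 _ h0')⁻¹ : Fˣ) : F)
      rw [Units.val_inv_eq_inv_val, Units.val_mul, Units.val_mk0, Units.val_mk0]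
      exact eq_inv_of_mul_eq_one_right h1

/-- **`PSL₃(q)`.** -/
theorem nf_psl3 : FamNF (fun g => ∃ q, g = .psl 3 q) := by
  refine ⟨54, BB + 3, by norm_num, fun g T _ _ _ hT hg hD => ?_⟩
  obtain ⟨q, rfl⟩ := hg
  obtain ⟨F, _, _, hF, ⟨e⟩⟩ := hT.real
  have hD3 : 3 ≤ Nat.card T := by omega
  have hker : (pr 3 F).ker = Subgroup.center (Matrix.SpecialLinearGroup (Fin 3) F) := QuotientGroup.ker_mk' _
  have hck : Nat.card (pr 3 F).ker ≤ 3 := by
    rw [hker]
    exact (H321.PSLThree.card_center (F := F)).le.trans (Nat.gcd_le_left _ (by norm_num))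
  have hTe : Nat.card T = Nat.card (Matrix.ProjectiveSpecialLinearGroup (Fin 3) F) := Nat.card_congr e.toEquiv
  have hGT := card_eq_ker (pr 3 F) (QuotientGroup.mk'_surjective _)
  have hbig : 6 * NN < Fintype.card F := by
    by_contra hcon
    have h1 : Nat.card (Matrix.ProjectiveSpecialLinearGroup (Fin 3) F) ≤ Nat.card (Matrix.SpecialLinearGroup (Fin 3) F) :=
      Nat.card_le_card_of_surjective (pr 3 F) (QuotientGroup.mk'_surjective _)
    have h2 : Fintype.card F ^ 9 ≤ Fintype.card F ^ 18 := Nat.pow_le_pow_right Fintype.card_pos (by norm_num)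
    have h3 := BB_le (not_lt.1 hcon)
    have h4 := card_sl_le (F := F)
    omega
  refine exists_of_nf (c := Nat.card (Matrix.SpecialLinearGroup (Fin 3) F)) Nat.card_pos.ne' ?_ hD3
    (NF_congr e.symm (nf_psl3_aux hbig))
  rw [hGT, hTe]
  exact Nat.mul_le_mul_right _ hck

theorem nf_psu3_aux {F : Type} [Field F] [Fintype F] {q : ℕ} (hF : Fintype.card F = q ^ 2) (hbig : 6 * NN < q) :
    NF ((Nat.card (SU 3 F q)).primeFactors.card + 1) 54 (PSU 3 F q) := by
  have hNN : NN = 10080 := rfl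
  obtain ⟨p, n, r, h, hchar⟩ := exists_PN hF (by omega)
  obtain ⟨hrT, -, -⟩ := psu3_orders hF h
  have hrS : r ∣ Nat.card (SU 3 F q) := hrT.trans (Subgroup.card_quotient_dvd_card _)
  have hmax : ∀ M : Subgroup (PSU 3 F q), IsCoatom M →
      IsMaximalIn (SUg 3 F q) ((M.comap (QuotientGroup.mk' (Subgroup.center (SU 3 F q)))).map (suHom 3 F q)) := by
    intro M hM
    have := isMaximalIn_of_coatom (QuotientGroup.mk' (Subgroup.center (SU 3 F q))) (QuotientGroup.mk'_surjective _)
      (suHom 3 F q) suHom_injective hM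
    rwa [range_suHom] at this
  refine nf_outA (suHom 3 F q) suHom_injective (QuotientGroup.mk' (Subgroup.center (SU 3 F q)))
    (QuotientGroup.mk'_surjective _) (powMonoidHom (q + 1) : Fˣ →* Fˣ).ker ?_ ?_ ?_
    fun M hM => outA_su hF (by omega) h hrS (hmax M hM)
  · rw [card_norm_one hF]
    omega
  · intro a ha b hb
    have ha' : a ^ (q + 1) = 1 := ha
    have hb' : b ^ (q + 1) = 1 := hb
    have hu : ∀ x : Fˣ, x ^ (q + 1) = 1 → (x : F) * (x : F) ^ q = 1 := by
      intro x hx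
      rw [← pow_succ', ← Units.val_pow_eq_pow_val, hx, Units.val_one]
    have hab : ((a * b)⁻¹) ^ (q + 1) = 1 := by rw [inv_pow, mul_pow, ha', hb', one_mul, inv_one]
    have hdet : (diagonal ![(a : F), (b : F), (((a * b)⁻¹ : Fˣ) : F)] : Matrix (Fin 3) (Fin 3) F).det = 1 := by
      rw [Matrix.det_diagonal, Fin.prod_univ_three]
      show (a : F) * b * (((a * b)⁻¹ : Fˣ) : F) = 1
      rw [← Units.val_mul, ← Units.val_mul, mul_inv_cancel, Units.val_one]
    refine ⟨⟨⟨diagonal ![(a : F), (b : F), (((a * b)⁻¹ : Fˣ) : F)], hdet⟩, ?_⟩, rfl⟩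
    intro v w
    show hermForm 3 F q (diagonal ![(a : F), (b : F), (((a * b)⁻¹ : Fˣ) : F)] *ᵥ v)
      (diagonal ![(a : F), (b : F), (((a * b)⁻¹ : Fˣ) : F)] *ᵥ w) = hermForm 3 F q v w
    unfold hermForm
    rw [Fin.sum_univ_three, Fin.sum_univ_three]
    simp only [Matrix.mulVec_diagonal]
    show (a : F) * v 0 * ((a : F) * w 0) ^ q + (b : F) * v 1 * ((b : F) * w 1) ^ q +
      (((a * b)⁻¹ : Fˣ) : F) * v 2 * ((((a * b)⁻¹ : Fˣ) : F) * w 2) ^ q = _
    rw [mul_pow, mul_pow, mul_pow]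
    linear_combination v 0 * w 0 ^ q * hu a ha' + v 1 * w 1 ^ q * hu b hb' + v 2 * w 2 ^ q * hu _ hab
  · intro g d hd
    have hd' : (((g : SU 3 F q) : Matrix.SpecialLinearGroup (Fin 3) F) : Matrix (Fin 3) (Fin 3) F) = diagonal d := hd
    have h1 : d 0 * d 1 * d 2 = 1 := by
      have h2 := g.1.2
      rw [hd', Matrix.det_diagonal, Fin.prod_univ_three] at h2
      exact h2
    have h0 : d 0 ≠ 0 := by
      intro h
      rw [h] at h1
      simp at h1
    have h0' : d 1 ≠ 0 := by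
      intro h
      rw [h] at h1
      simp at h1
    have hq0 : q ≠ 0 := by omega
    have hiso : ∀ i, d i ^ (q + 1) = 1 := by
      intro i
      have h2 := g.2 (Pi.single i 1) (Pi.single i 1)
      change hermForm 3 F q (((g : SU 3 F q) : Matrix.SpecialLinearGroup (Fin 3) F).1 *ᵥ (Pi.single i 1))
        (((g : SU 3 F q) : Matrix.SpecialLinearGroup (Fin 3) F).1 *ᵥ (Pi.single i 1)) =
        hermForm 3 F q (Pi.single i 1) (Pi.single i 1) at h2
      rw [hd', Matrix.mulVec_single_one] at h2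
      unfold hermForm at h2
      have h3 : ∀ j, (diagonal d : Matrix (Fin 3) (Fin 3) F).col i j = if j = i then d i else 0 := by
        intro j
        rw [Matrix.col_apply, Matrix.diagonal_apply]
        split_ifs with h4
        · rw [h4]
        · rfl
      simp only [h3, Pi.single_apply] at h2
      rw [Finset.sum_eq_single i, Finset.sum_eq_single i] at h2
      · simp only [if_true, one_pow, mul_one] at h2
        rw [pow_succ']
        exact h2
      · intro j _ hj
        rw [if_neg hj, zero_mul]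
      · intro h4; exact absurd (Finset.mem_univ _) h4
      · intro j _ hj
        rw [if_neg hj, zero_mul]
      · intro h4; exact absurd (Finset.mem_univ _) h4
    refine ⟨Units.mk0 _ h0, ?_, Units.mk0 _ h0', ?_, ?_⟩
    · exact Units.ext (by rw [powMonoidHom_apply, Units.val_pow_eq_pow_val, Units.val_mk0, hiso, Units.val_one])
    · exact Units.ext (by rw [powMonoidHom_apply, Units.val_pow_eq_pow_val, Units.val_mk0, hiso, Units.val_one])
    · funext i
      fin_cases i
      · rfl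
      · rfl
      · show d 2 = (((Units.mk0 _ h0 * Units.mk0 _ h0')⁻¹ : Fˣ) : F)
        rw [Units.val_inv_eq_inv_val, Units.val_mul, Units.val_mk0, Units.val_mk0]
        exact eq_inv_of_mul_eq_one_right h1

/-- **`PSU₃(q)`.** -/
theorem nf_psu3 : FamNF (fun g => ∃ q, g = .psu 3 q) := by
  refine ⟨54, BB + 3, by norm_num, fun g T _ _ _ hT hg hD => ?_⟩
  obtain ⟨q, rfl⟩ := hg
  obtain ⟨F, _, _, hF, ⟨e⟩⟩ := hT.real
  have hD3 : 3 ≤ Nat.card T := by omega
  have hker : (QuotientGroup.mk' (Subgroup.center (SU 3 F q))).ker = Subgroup.center (SU 3 F q) := QuotientGroup.ker_mk' _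
  have hck : Nat.card (QuotientGroup.mk' (Subgroup.center (SU 3 F q))).ker ≤ 3 := by
    rw [hker, Cfsg.Agent.S0279.result hF 3 le_rfl]
    exact Nat.gcd_le_left _ (by norm_num)
  have hTe : Nat.card T = Nat.card (PSU 3 F q) := Nat.card_congr e.toEquiv
  have hGT : Nat.card (SU 3 F q) = Nat.card (QuotientGroup.mk' (Subgroup.center (SU 3 F q))).ker * Nat.card (PSU 3 F q) :=
    card_eq_ker (QuotientGroup.mk' (Subgroup.center (SU 3 F q))) (QuotientGroup.mk'_surjective _)
  have hbig : 6 * NN < q := by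
    by_contra hcon
    have h1 : Nat.card (PSU 3 F q) ≤ Nat.card (SU 3 F q) :=
      Nat.card_le_card_of_surjective _ (QuotientGroup.mk'_surjective (Subgroup.center (SU 3 F q)))
    have h2 : Nat.card (SU 3 F q) ≤ Nat.card (Matrix.SpecialLinearGroup (Fin 3) F) :=
      Subgroup.card_le_card_group _
    have h3 := BB_le (not_lt.1 hcon)
    have h4 := card_sl_le (F := F)
    rw [hF, ← pow_mul] at h4
    have h5 : q ^ (2 * 9) = q ^ 18 := by norm_num
    omega
  refine exists_of_nf (c := Nat.card (SU 3 F q)) Nat.card_pos.ne' ?_ hD3 (NF_congr e.symm (nf_psu3_aux hF hbig))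
  rw [hGT, hTe]
  exact Nat.mul_le_mul_right _ hck

end Cfsg.Agent.H716.Rg
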