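import Cfsg.Agent.H716.Rg.ExcN
import Cfsg.Agent.H513.Rg.TwD4
import Cfsg.Agent.H957.TwE6Sys
import Cfsg.Agent.H753.Rg.TwF4
import Cfsg.Agent.H240.Rg.RatSz
import Cfsg.Agent.H240.Rg.OrdSz
import Cfsg.Agent.H119.Rg.Ree
import Cfsg.Agent.H447.Rg.Chev

/-!
# S5714 (TEAM RG, helper716): the inputs of `famP_exc_of`
-/

set_option autoImplicit false

namespace Cfsg.Agent.H716.Rg

open Cfsg Cfsg.Agent.OrdDiv Cfsg.Agent.H436 Cfsg.Agent.H141.Rg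

theorem ordIn : OrdIn where
  chev := H447.Rg.ord_chev
  td4 := H447.Rg.ord_td4
  te6 := H447.Rg.ord_te6
  tf4 := H753.Rg.TwF4.ord_tf4
  sz := H240.Rg.ord_sz
  ree := H119.Rg.ord_ree

theorem ratIn_of (h : ∃ c : ℕ, ∀ D ∈ [Lie.chevG2, Lie.chevF4, Lie.chevE6, Lie.chevE7, Lie.chevE8], ∀ (F : Type) [Field F]
    [Fintype F], ∃ X : Subgroup ↥(D.group F), Nat.card X = Fintype.card F ∧ X ≠ ⊤ ∧ LRG X c) : RatIn where
  chev := h
  td4 := H513.Rg.TwD4.lrg_td4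
  te6 := H957.TwE6Lrg.lrg_te6
  tf4 := H753.Rg.TwF4.lrg_tf4
  sz := H240.Rg.rat_sz
  ree := H119.Rg.rat_ree

/-- `FamP` for the exceptional groups, from `lrg_chev` and `ordLe_of_rat` -/
theorem famP_exc_of' (h : ∃ c : ℕ, ∀ D ∈ [Lie.chevG2, Lie.chevF4, Lie.chevE6, Lie.chevE7, Lie.chevE8], ∀ (F : Type)
    [Field F] [Fintype F], ∃ X : Subgroup ↥(D.group F), Nat.card X = Fintype.card F ∧ X ≠ ⊤ ∧ LRG X c) (hL : OrdLeS) :
    FamP (fun g => H268.Seven.IsExc g) :=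
  famP_exc_of (ratIn_of h) ordIn hL

end Cfsg.Agent.H716.Rg
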